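import Cfsg.Agent.H98.ExtField.Basic

/-!
Invertible `K`-linear maps with every determinant over `F`.
-/

set_option autoImplicit false

namespace Cfsg.Agent.H98.ExtField

open Module

variable {F : Type*} [Field F] [Fintype F] {K : Type*} [Field K] [Algebra F K] [FiniteDimensional F K]
  {V : Type*} [AddCommGroup V] [Module F V] [Module K V] [IsScalarTower F K V] [FiniteDimensional F V]

theorem exists_linear_det_eq {w : V} {f : V →ₗ[K] K} (hfw : f w = 1) (d : Fˣ) :
    ∃ u : (Module.End F V)ˣ,
      (∀ (k : K) (x : V), (u : Module.End F V) (k • x) = k • (u : Module.End F V) x) ∧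
      LinearMap.det (u : Module.End F V) = (d : F) := by
  haveI : Finite K := Module.finite_of_finite F
  obtain ⟨a, ha⟩ := FiniteField.norm_surjective F K (d : F)
  have ha0 : a ≠ 0 := fun h => d.ne_zero (by rw [← ha, h, Algebra.norm_zero])
  let g : V →ₗ[K] V := LinearMap.id + (a - 1) • f.smulRight w
  let gi : V →ₗ[K] V := LinearMap.id + (a⁻¹ - 1) • f.smulRight w
  have hcomp : ∀ x, g (gi x) = x ∧ gi (g x) = x := fun x => by
    constructor <;>
    · simp only [g, gi, LinearMap.add_apply, LinearMap.id_apply, LinearMap.smul_apply, LinearMap.smulRight_apply,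
        map_add, map_smul, hfw, smul_eq_mul, mul_one]
      match_scalars <;> field_simp <;> ring
  refine ⟨⟨g.restrictScalars F, gi.restrictScalars F, LinearMap.ext fun x => (hcomp x).1,
    LinearMap.ext fun x => (hcomp x).2⟩, g.map_smul, ?_⟩
  let e : V ≃ₗ[F] K × LinearMap.ker f :=
    { toFun := fun x => (f x, ⟨x - f x • w, by simp [hfw]⟩)
      map_add' := fun x y => by
        refine Prod.ext (map_add f x y) (Subtype.ext ?_)
        simp only [map_add, add_smul, Submodule.coe_add, Prod.snd_add]
        abel
      map_smul' := fun c x => by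
        refine Prod.ext (LinearMap.map_smul_of_tower f c x) (Subtype.ext ?_)
        simp only [LinearMap.map_smul_of_tower, smul_assoc, smul_sub, RingHom.id_apply, Prod.smul_snd,
          Submodule.coe_smul_of_tower]
      invFun := fun p => p.1 • w + (p.2 : V)
      left_inv := fun x => by simp
      right_inv := fun p => by
        have hp : f (p.2 : V) = 0 := p.2.2
        refine Prod.ext ?_ (Subtype.ext ?_) <;> simp [hfw, hp] }
  haveI : Module.Finite F (LinearMap.ker f) :=
    inferInstanceAs (Module.Finite F ((LinearMap.ker f).restrictScalars F))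
  show LinearMap.det (g.restrictScalars F) = (d : F)
  rw [← LinearMap.det_conj (g.restrictScalars F) e,
    show (e : V →ₗ[F] K × LinearMap.ker f) ∘ₗ g.restrictScalars F ∘ₗ
        (e.symm : K × LinearMap.ker f →ₗ[F] V) = (LinearMap.mulLeft F a).prodMap LinearMap.id from ?_,
    LinearMap.det_prodMap, LinearMap.det_id, mul_one, ← ha, Algebra.norm_apply]
  · rfl
  · refine LinearMap.ext fun p => ?_
    have hp : f (p.2 : V) = 0 := p.2.2
    refine Prod.ext ?_ (Subtype.ext ?_)
    · simp [e, g, hfw, hp]
      ring
    · simp [e, g, hfw, hp]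
      module

end Cfsg.Agent.H98.ExtField
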