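import Cfsg.Agent.H98.ExtField.Core

/-!
A group of invertible `F`-linear maps that contains `SL_m(K)` (`[K : F]` prime, `m ≥ 2`) and an element not
semilinear over `K` contains every transvection.
-/

set_option autoImplicit false

namespace Cfsg.Agent.H98.ExtField

open Module

variable {F : Type*} [Field F] {K : Type*} [Field K] [Algebra F K]
  {V : Type*} [AddCommGroup V] [Module F V] [Module K V] [IsScalarTower F K V]
  {M : Subgroup (Module.End F V)ˣ}

variable (F K) in
/-- `k ↦ k • v`, as an `F`-linear map. -/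
def smulMap (v : V) : K →ₗ[F] V := (LinearMap.toSpanSingleton K V v).restrictScalars F

@[simp] theorem smulMap_apply (v : V) (k : K) : smulMap F K v k = k • v := rfl

theorem smulMap_injective {v : V} (hv : v ≠ 0) : Function.Injective (smulMap F K v) := smul_left_injective K hv

variable (F K) in
/-- The `K`-line through `v`, as an `F`-subspace. -/
def line (v : V) : Submodule F V := LinearMap.range (smulMap F K v)

theorem mem_line {v u : V} : u ∈ line F K v ↔ ∃ k : K, k • v = u := Iff.rfl

theorem self_mem_line (v : V) : v ∈ line F K v := ⟨1, one_smul K v⟩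

theorem finrank_line {v : V} (hv : v ≠ 0) : finrank F (line F K v) = finrank F K :=
  LinearMap.finrank_range_of_inj (smulMap_injective hv)

theorem line_eq_of_mem {v u : V} (hu : u ∈ line F K v) (hu0 : u ≠ 0) : line F K u = line F K v := by
  obtain ⟨k, rfl⟩ := mem_line.1 hu
  have hk : k ≠ 0 := fun h => hu0 (by rw [h, zero_smul])
  refine Submodule.ext fun x => ⟨?_, ?_⟩
  · rintro ⟨s, rfl⟩
    exact ⟨s * k, by simp [smul_smul]⟩
  · rintro ⟨s, rfl⟩
    exact ⟨s * k⁻¹, by simp [smul_smul, hk]⟩

/-- A `K`-linear functional vanishing on given vectors and equal to one at a vector outside their span. -/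
theorem exists_dual (s : Set V) {x : V} (hx : x ∉ Submodule.span K s) :
    ∃ f : V →ₗ[K] K, f x = 1 ∧ ∀ u ∈ s, f u = 0 := by
  obtain ⟨ψ, hψx, hψ⟩ := Submodule.exists_dual_map_eq_bot_of_notMem hx inferInstance
  refine ⟨(ψ x)⁻¹ • ψ, inv_mul_cancel₀ hψx, fun u hu => ?_⟩
  have : ψ u ∈ (Submodule.span K s).map ψ := ⟨u, Submodule.subset_span hu, rfl⟩
  rw [hψ, Submodule.mem_bot] at this
  rw [LinearMap.smul_apply, this, smul_zero]

theorem notMem_span_singleton {v x : V} (h : x ∉ line F K v) : x ∉ Submodule.span K {v} := fun h' =>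
  h (Submodule.mem_span_singleton.1 h')

theorem apply_inv (g : (Module.End F V)ˣ) (x : V) :
    (g : Module.End F V) (((g⁻¹ : (Module.End F V)ˣ) : Module.End F V) x) = x := by
  rw [← Module.End.mul_apply, Units.mul_inv, Module.End.one_apply]

theorem inv_apply (g : (Module.End F V)ˣ) (x : V) :
    ((g⁻¹ : (Module.End F V)ˣ) : Module.End F V) ((g : Module.End F V) x) = x := by
  rw [← Module.End.mul_apply, Units.inv_mul, Module.End.one_apply]

theorem injective_coe (g : (Module.End F V)ˣ) : Function.Injective (g : Module.End F V) :=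
  Function.LeftInverse.injective (inv_apply g)

theorem finrank_map_coe (g : (Module.End F V)ˣ) (L : Submodule F V) :
    finrank F (L.map (g : Module.End F V)) = finrank F L :=
  (Submodule.equivMapOfInjective _ (injective_coe g) L).finrank_eq.symm

theorem map_inv_map (g : (Module.End F V)ˣ) (L : Submodule F V) :
    (L.map (g : Module.End F V)).map ((g⁻¹ : (Module.End F V)ˣ) : Module.End F V) = L := by
  rw [← Submodule.map_comp, ← Module.End.mul_eq_comp, Units.inv_mul, Module.End.one_eq_id, Submodule.map_id]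

theorem map_map_inv (g : (Module.End F V)ˣ) (L : Submodule F V) :
    (L.map ((g⁻¹ : (Module.End F V)ˣ) : Module.End F V)).map (g : Module.End F V) = L := by
  simpa using map_inv_map g⁻¹ L

/-- Some element of `M` maps a `K`-line to a subspace that is not a `K`-line. -/
theorem exists_nonline {g : (Module.End F V)ˣ} (hg : g ∈ M) {k : K}
    (hne : ∀ k' : K, ∃ x, (g : Module.End F V) (k • ((g⁻¹ : (Module.End F V)ˣ) : Module.End F V) x) ≠ k' • x)
    (hdim : ∀ v : V, ∃ z, z ∉ line F K v) :
    ∃ g ∈ M, ∃ v : V, v ≠ 0 ∧ ∀ u : V, (line F K v).map (g : Module.End F V) ≠ line F K u := by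
  by_contra hc
  push Not at hc
  set gi : Module.End F V := ((g⁻¹ : (Module.End F V)ˣ) : Module.End F V) with hgi
  have h1 : ∀ x : V, ∃ c : K, (g : Module.End F V) (k • gi x) = c • x := by
    intro x
    rcases eq_or_ne x 0 with rfl | hx
    · exact ⟨0, by simp⟩
    obtain ⟨z, hz⟩ := hc g⁻¹ (M.inv_mem hg) x hx
    have hmem : gi x ∈ line F K z := hz ▸ Submodule.mem_map_of_mem (self_mem_line x)
    have hx0 : gi x ≠ 0 := fun h => hx (by simpa [hgi, apply_inv] using congrArg (g : Module.End F V) h)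
    obtain ⟨u, ⟨c, rfl⟩, hu⟩ :
        k • gi x ∈ (line F K x).map gi := by
      rw [hz, ← line_eq_of_mem hmem hx0]
      exact ⟨k, rfl⟩
    exact ⟨c, by rw [← hu, hgi, apply_inv]; rfl⟩
  choose c hc' using h1
  have hindep : ∀ x z : V, x ≠ 0 → z ∉ line F K x → c z = c x := by
    intro x z hx hz
    obtain ⟨f, hfz, hf⟩ := exists_dual {x} (notMem_span_singleton hz)
    have hfx := hf x rfl
    have e : c (x + z) • (x + z) = c x • x + c z • z := by
      rw [← hc', ← hc', ← hc', map_add, smul_add, map_add]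
    have e1 : c (x + z) = c z := by simpa [hfx, hfz] using congrArg f e
    rw [← e1]
    rw [e1, smul_add, add_left_inj] at e
    rw [e1]
    exact smul_left_injective K hx e
  obtain ⟨x₀, hx₀⟩ := hdim 0
  have hx0 : x₀ ≠ 0 := fun h => hx₀ (by rw [h]; exact Submodule.zero_mem _)
  obtain ⟨x, hx⟩ := hne (c x₀)
  refine hx ?_
  rcases eq_or_ne x 0 with rfl | hxne
  · simp
  rw [hc']
  by_cases hmem : x ∈ line F K x₀
  · obtain ⟨z, hz⟩ := hdim x₀
    rw [← hindep x₀ z hx0 hz, hindep x z hxne (by rwa [line_eq_of_mem hmem hxne])]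
  · rw [hindep x₀ x hx0 hmem]

variable [Fintype F] [FiniteDimensional F V] [FiniteDimensional F K]

/-- The data of `Pair` from an image of a line meeting a line in a hyperplane. -/
theorem pair_of_hyperplane (hM : ContainsSL K M) {g : (Module.End F V)ˣ} (hg : g ∈ M) {v u : V} (hv : v ≠ 0)
    (hu : u ≠ 0) (hr : 2 ≤ finrank F K)
    (hd : finrank F ↥((line F K v).map (g : Module.End F V) ⊓ line F K u) + 1 = finrank F K) :
    ∃ (J : Submodule F K) (w x : V) (y : K), Nonempty (Pair M J w x y) := by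
  set L := (line F K v).map (g : Module.End F V) with hL
  have hLr : finrank F L = finrank F K := by rw [hL, finrank_map_coe, finrank_line hv]
  obtain ⟨w, hw, hw0⟩ := (Submodule.ne_bot_iff (L ⊓ line F K u)).1 fun h => by
    rw [h, finrank_bot] at hd
    omega
  have hl : line F K u = line F K w := (line_eq_of_mem hw.2 hw0).symm
  rw [hl] at hd
  set J : Submodule F K := L.comap (smulMap F K w) with hJdef
  have hmap : J.map (smulMap F K w) = L ⊓ line F K w := by rw [hJdef, Submodule.map_comap_eq, inf_comm]; rfl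
  have hJr : finrank F J + 1 = finrank F K := by
    rw [(Submodule.equivMapOfInjective _ (smulMap_injective hw0) J).finrank_eq, hmap]
    exact hd
  obtain ⟨y, hy⟩ : ∃ y : K, y ∉ J := by
    by_contra hc
    push Not at hc
    have : J = ⊤ := eq_top_iff.2 fun k _ => hc k
    rw [this, finrank_top] at hJr
    omega
  obtain ⟨x, hxL, hxw⟩ : ∃ x ∈ L, x ∉ line F K w := by
    by_contra hc
    push Not at hc
    rw [inf_eq_left.2 hc, hLr] at hd
    omega
  have hwx : w ∉ line F K x := fun h => hxw (by rw [line_eq_of_mem h hw0]; exact self_mem_line x)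
  obtain ⟨f, hfw, hf⟩ := exists_dual {x} (notMem_span_singleton hwx)
  obtain ⟨g', hgx, hg'⟩ := exists_dual {w} (notMem_span_singleton hxw)
  obtain ⟨ψ₀, hψ₀, hψJ⟩ := Submodule.exists_dual_map_eq_bot_of_notMem hy inferInstance
  let ψ : K →ₗ[F] F := (ψ₀ y)⁻¹ • ψ₀
  have hψy : ψ y = 1 := inv_mul_cancel₀ hψ₀
  have hψ0 : J ≤ LinearMap.ker ψ := fun j hj => by
    have : ψ₀ j ∈ J.map ψ₀ := ⟨j, hj, rfl⟩
    rw [hψJ, Submodule.mem_bot] at this
    simp [ψ, this]
  have hker : J = LinearMap.ker ψ := by
    refine Submodule.eq_of_le_of_finrank_le hψ0 ?_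
    have : finrank F (LinearMap.ker ψ) < finrank F K := Submodule.finrank_lt fun h => by
      have := LinearMap.mem_ker.1 (h.symm ▸ Submodule.mem_top : y ∈ LinearMap.ker ψ)
      rw [hψy] at this
      exact one_ne_zero this
    omega
  have hJ : ∀ k, k ∈ J ↔ ψ k = 0 := fun k => by rw [hker, LinearMap.mem_ker]
  have hdec : ∀ z ∈ L, ∃ j ∈ J, ∃ c : F, z = j • w + c • x := by
    have hW : L ⊓ line F K w ⊔ Submodule.span F {x} = L := by
      have hle : L ⊓ line F K w ⊔ Submodule.span F {x} ≤ L :=
        sup_le inf_le_left (by simpa using hxL)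
      refine Submodule.eq_of_le_of_finrank_le hle ?_
      have hlt : L ⊓ line F K w < L ⊓ line F K w ⊔ Submodule.span F {x} := lt_of_le_of_ne le_sup_left fun h =>
        hxw ((h.symm ▸ Submodule.mem_sup_right (Submodule.mem_span_singleton_self x) : x ∈ L ⊓ line F K w).2)
      have := Submodule.finrank_lt_finrank_of_lt hlt
      omega
    intro z hz
    rw [← hW, ← hmap, Submodule.mem_sup] at hz
    obtain ⟨a, ⟨j, hj, rfl⟩, b, hb, rfl⟩ := hz
    obtain ⟨c, rfl⟩ := Submodule.mem_span_singleton.1 hb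
    exact ⟨j, hj, c, by rw [smulMap_apply]⟩
  have hLv : ∀ z ∈ L, ((g⁻¹ : (Module.End F V)ˣ) : Module.End F V) z ∈ line F K v := fun z hz => by
    obtain ⟨a, ha, rfl⟩ := hz
    rwa [inv_apply]
  refine ⟨J, w, x, y, ⟨{
    f := f, g := g', hfw := hfw, hfx := hf x rfl, hgw := hg' w rfl, hgx := hgx, ψ := ψ, hJ := hJ, hψ := hψy,
    h1 := (hJ 1).1 (show smulMap F K w 1 ∈ L by simpa using hw.1),
    hb := ?_ }⟩⟩
  rintro z ⟨j, hj, c, rfl⟩
  have hzL : j • w + c • x ∈ L := L.add_mem hj (L.smul_mem c hxL)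
  set gi : Module.End F V := ((g⁻¹ : (Module.End F V)ˣ) : Module.End F V) with hgi
  have hyv : gi (y • w) ∉ line F K v := fun h => hy (show y • w ∈ L from ⟨_, h, apply_inv g _⟩)
  obtain ⟨f', hf'1, hf'⟩ := exists_dual {v} (notMem_span_singleton hyv)
  have hf'v : ∀ u ∈ line F K v, f' u = 0 := fun u ⟨k, hk⟩ => by rw [← hk]; simp [hf' v rfl]
  have hkill : ∀ u ∈ L, ((g : Module.End F V) * (f'.smulRight (gi (j • w + c • x))).restrictScalars F * gi) u = 0 :=
    fun u hu => by simp [hf'v _ (hLv u hu)]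
  refine ⟨_, (MN.transvection hM f' (gi (j • w + c • x)) (hf'v _ (hLv _ hzL))).conj hg, fun k => ?_,
    hkill x hxL, fun u => ?_⟩
  · have hk : (k - ψ k • y) • w ∈ L := (hJ (k - ψ k • y)).2 (by simp [hψy])
    have := hkill _ hk
    rw [sub_smul, map_sub, sub_eq_zero] at this
    rw [this, smul_assoc, map_smul]
    congr 1
    show (g : Module.End F V) (f' (gi (y • w)) • gi (j • w + c • x)) = _
    rw [hf'1, one_smul, hgi, apply_inv]
  · apply hdec
    obtain ⟨k, hk⟩ := hLv _ hzL
    refine ⟨f' (gi u) • gi (j • w + c • x), ⟨f' (gi u) * k, ?_⟩, ?_⟩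
    · rw [smulMap_apply, mul_smul, ← hk, smulMap_apply]
    · simp [hgi]

/-- Some image of a line under `M` meets a line in a hyperplane. -/
theorem exists_pair (hM : ContainsSL K M) (hr : (finrank F K).Prime) : ∀ (e : ℕ) {g : (Module.End F V)ˣ},
    g ∈ M → ∀ {v u : V}, v ≠ 0 → u ≠ 0 → (∀ z, (line F K v).map (g : Module.End F V) ≠ line F K z) →
    (line F K v).map (g : Module.End F V) ⊓ line F K u ≠ ⊥ →
    finrank F ↥((line F K v).map (g : Module.End F V) ⊓ line F K u) + e = finrank F K →
    ∃ (J : Submodule F K) (w x : V) (y : K), Nonempty (Pair M J w x y) := by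
  intro e
  induction e using Nat.strong_induction_on with
  | _ e ih =>
  intro g hg v u hv hu hline hne hd
  set L := (line F K v).map (g : Module.End F V) with hL
  have hLr : finrank F L = finrank F K := by rw [hL, finrank_map_coe, finrank_line hv]
  rcases eq_or_ne e 0 with rfl | he0
  · rw [add_zero, ← hLr] at hd
    refine absurd ?_ (hline u)
    exact Submodule.eq_of_le_of_finrank_le (inf_eq_left.1 (Submodule.eq_of_le_of_finrank_le inf_le_left hd.ge))
      (by rw [finrank_line hu, hLr])
  rcases eq_or_ne e 1 with rfl | he1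
  · exact pair_of_hyperplane hM hg hv hu hr.two_le hd
  obtain ⟨x, hxL, hxu⟩ : ∃ x ∈ L, x ∉ line F K u := by
    by_contra hc
    push Not at hc
    rw [inf_eq_left.2 hc, hLr] at hd
    omega
  obtain ⟨f, hfu, hfx, x', hx', hfx'⟩ : ∃ f : V →ₗ[K] K, f u = 0 ∧ f x • u ∈ L ∧ ∃ x' ∈ L, f x' • u ∉ L := by
    by_contra hc
    push Not at hc
    have hsub : L ≤ L ⊓ line F K u ⊔ Submodule.span F {x} := by
      intro z hz
      obtain ⟨k₀, hk₀⟩ : ∃ k : K, k • u ∉ L := by
        by_contra h
        push Not at h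
        refine hline u (Submodule.eq_of_le_of_finrank_le (fun t ht => by obtain ⟨k, rfl⟩ := ht; exact h k) ?_).symm
        rw [hLr, finrank_line hu]
      have hz2 : z ∈ Submodule.span K {u, x} := by
        by_contra hz2
        obtain ⟨f, hfz, hf⟩ := exists_dual {u, x} hz2
        have := hc (k₀ • f) (by simp [hf u]) (by simp [hf x]) z hz
        simp [hfz] at this
        exact hk₀ this
      obtain ⟨c₁, c₂, hz3⟩ := Submodule.mem_span_pair.1 hz2
      obtain ⟨f, hfx, hf⟩ := exists_dual {u} (notMem_span_singleton hxu)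
      have hfu := hf u rfl
      let A : Subalgebra F K :=
        { carrier := {c | ∀ k : K, k • u ∈ L → (c * k) • u ∈ L}
          one_mem' := fun k hk => by rwa [one_mul]
          mul_mem' := fun hs ht k hk => by rw [mul_assoc]; exact hs _ (ht k hk)
          zero_mem' := fun k _ => by rw [zero_mul, zero_smul]; exact L.zero_mem
          add_mem' := fun hs ht k hk => by rw [add_mul, add_smul]; exact L.add_mem (hs k hk) (ht k hk)
          algebraMap_mem' := fun a k hk => by rw [← Algebra.smul_def, smul_assoc]; exact L.smul_mem a hk }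
      haveI := Subalgebra.isSimpleOrder_of_finrank_prime F K hr
      have hA : A = ⊥ := (eq_bot_or_eq_top A).resolve_right fun hA => by
        obtain ⟨w, hw, hw0⟩ := (Submodule.ne_bot_iff _).1 hne
        obtain ⟨k, hk⟩ := mem_line.1 hw.2
        have hk0 : k ≠ 0 := fun h => hw0 (by rw [← hk, h, zero_smul])
        have hmem : k₀ * k⁻¹ ∈ A := hA ▸ Algebra.mem_top
        have := hmem k (hk ▸ hw.1)
        rw [mul_assoc, inv_mul_cancel₀ hk0, mul_one] at this
        exact hk₀ this
      have hc₂ : c₂ ∈ A := fun k hk => by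
        have := hc (k • f) (by simp [hfu]) (by simpa [hfx] using hk) z hz
        rw [← hz3] at this
        simpa [hfu, hfx, mul_comm] using this
      rw [hA, Algebra.mem_bot] at hc₂
      obtain ⟨a, rfl⟩ := hc₂
      rw [algebraMap_smul] at hz3
      refine Submodule.mem_sup.2 ⟨c₁ • u, ⟨?_, c₁, rfl⟩, a • x,
        Submodule.smul_mem _ a (Submodule.mem_span_singleton_self x), hz3⟩
      have : c₁ • u = z - a • x := eq_sub_of_add_eq hz3
      rw [SetLike.mem_coe, this]
      exact L.sub_mem hz (L.smul_mem a hxL)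
    have := (Submodule.finrank_mono hsub).trans (Submodule.finrank_add_le_finrank_add_finrank _ _)
    have hspan : finrank F (Submodule.span F {x}) ≤ 1 :=
      (finrank_span_le_card _).trans (by simp)
    omega
  obtain ⟨-, t, ht, hta⟩ := MN.transvection hM f u hfu
  have htx : ∀ z, (t : Module.End F V) z = z + f z • u := fun z => by simp [hta]
  set L' := L.map (t : Module.End F V) with hL'
  have hI : L ⊓ line F K u ≤ L' := fun z hz => by
    obtain ⟨k, rfl⟩ := mem_line.1 hz.2
    exact ⟨k • u, hz.1, by simp [htx, hfu]⟩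
  have hxL' : x ∈ L' := ⟨x - f x • u, L.sub_mem hxL hfx, by simp [htx, hfu]⟩
  have hne' : L' ≠ L := fun h => hfx' (by
    have : (t : Module.End F V) x' ∈ L := h ▸ Submodule.mem_map_of_mem hx'
    rw [htx] at this
    simpa using L.sub_mem this hx')
  have hmap : (line F K v).map ((g⁻¹ * t * g : (Module.End F V)ˣ) : Module.End F V) =
      L'.map ((g⁻¹ : (Module.End F V)ˣ) : Module.End F V) := by
    rw [Units.val_mul, Units.val_mul, Module.End.mul_eq_comp, Module.End.mul_eq_comp, hL', hL,
      Submodule.map_comp, Submodule.map_comp]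
  have hx0 : x ≠ 0 := fun h => hxu (h ▸ Submodule.zero_mem _)
  have hxv : ((g⁻¹ : (Module.End F V)ˣ) : Module.End F V) x ∈ line F K v := by
    obtain ⟨a, ha, rfl⟩ := hxL
    rwa [inv_apply]
  have hline' : ∀ z, L'.map ((g⁻¹ : (Module.End F V)ˣ) : Module.End F V) ≠ line F K z := fun z hz => by
    have h1 : ((g⁻¹ : (Module.End F V)ˣ) : Module.End F V) x ∈ line F K z := hz ▸ Submodule.mem_map_of_mem hxL'
    have h0 : ((g⁻¹ : (Module.End F V)ˣ) : Module.End F V) x ≠ 0 := fun h =>
      hx0 (injective_coe g⁻¹ (by rw [h, map_zero]))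
    rw [← line_eq_of_mem h1 h0, line_eq_of_mem hxv h0] at hz
    exact hne' (by rw [← map_map_inv g L', hz])
  have hinf : L'.map ((g⁻¹ : (Module.End F V)ˣ) : Module.End F V) ⊓ line F K v =
      (L' ⊓ L).map ((g⁻¹ : (Module.End F V)ˣ) : Module.End F V) := by
    rw [Submodule.map_inf _ (injective_coe g⁻¹), hL, map_inv_map]
  have hlt : finrank F ↥(L ⊓ line F K u) < finrank F ↥(L' ⊓ L) :=
    Submodule.finrank_lt_finrank_of_lt (lt_of_le_of_ne (le_inf hI inf_le_left) fun h =>
      hxu ((h.symm ▸ ⟨hxL', hxL⟩ : x ∈ L ⊓ line F K u).2))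
  have hle : finrank F ↥(L' ⊓ L) ≤ finrank F L := Submodule.finrank_mono inf_le_right
  refine ih (finrank F K - finrank F ↥(L' ⊓ L)) (by omega) (M.mul_mem (M.mul_mem (M.inv_mem hg) ht) hg) hv hv
    (fun z => hmap ▸ hline' z) ?_ ?_
  · rw [hmap, hinf]
    intro h
    rw [← finrank_map_coe g⁻¹ (L' ⊓ L), h, finrank_bot] at hlt
    omega
  · rw [hmap, hinf, finrank_map_coe]
    omega

/-- Every `F`-functional is `τ` composed with a `K`-functional, for any nonzero `τ : K → F`. -/
theorem exists_factor {τ : K →ₗ[F] F} (hτ : τ ≠ 0) (χ : V →ₗ[F] F) :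
    ∃ g : V →ₗ[K] K, (∀ u, χ u = τ (g u)) ∧ ∀ v, (∀ k : K, χ (k • v) = 0) → g v = 0 := by
  let Φ : K →ₗ[F] (K →ₗ[F] F) := (LinearMap.mul F K).compr₂ τ
  have hΦ : ∀ a b, Φ a b = τ (a * b) := fun a b => rfl
  have hinj : Function.Injective Φ := by
    rw [injective_iff_map_eq_zero]
    intro a ha
    by_contra h
    apply hτ
    refine LinearMap.ext fun b => ?_
    have := LinearMap.congr_fun ha (a⁻¹ * b)
    rwa [hΦ, mul_inv_cancel_left₀ h] at this
  have hsurj : Function.Surjective Φ :=
    (LinearMap.injective_iff_surjective_of_finrank_eq_finrank (f := Φ)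
      (Subspace.dual_finrank_eq (K := F) (V := K)).symm).1 hinj
  choose g hg using fun u : V => hsurj (χ ∘ₗ smulMap F K u)
  have hg' : ∀ u b, τ (g u * b) = χ (b • u) := fun u b => by
    rw [← hΦ, hg]; rfl
  refine ⟨{ toFun := g, map_add' := fun u u' => hinj ?_, map_smul' := fun k u => hinj ?_ }, fun u => ?_,
    fun v hv => hinj ?_⟩
  · refine LinearMap.ext fun b => ?_
    rw [map_add, LinearMap.add_apply, hΦ, hΦ, hΦ, hg', hg', hg', smul_add, map_add]
  · refine LinearMap.ext fun b => ?_
    rw [RingHom.id_apply, hΦ, hΦ, hg', smul_eq_mul, mul_comm k, mul_assoc, hg', ← mul_smul, mul_comm k]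
  · have := hg' u 1
    rw [mul_one, one_smul] at this
    exact this.symm
  · refine LinearMap.ext fun b => ?_
    show Φ (g v) b = _
    rw [map_zero, hΦ, hg', hv]
    rfl

theorem conj_smulRight (g : (Module.End F V)ˣ) (φ : V →ₗ[F] F) (v : V) :
    (g : Module.End F V) * φ.smulRight v * ((g⁻¹ : (Module.End F V)ˣ) : Module.End F V) =
      (φ ∘ₗ ((g⁻¹ : (Module.End F V)ˣ) : Module.End F V)).smulRight ((g : Module.End F V) v) :=
  LinearMap.ext fun x => by simp

theorem MN.sub_smulRight {φ φ' : V →ₗ[F] F} {v : V} (h : MN M (φ.smulRight v)) (h' : MN M (φ'.smulRight v))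
    (hφ : φ v = 0) (hφ' : φ' v = 0) : MN M ((φ - φ').smulRight v) := by
  convert h.sub h' (LinearMap.ext fun x => by simp [hφ]) (LinearMap.ext fun x => by simp [hφ']) using 1
  exact LinearMap.ext fun x => by simp [sub_smul]

/-- If `M` fixes `v` up to `g`, transvections along `v` are moved by `g`. -/
theorem MN.comp_smulRight {φ : V →ₗ[F] F} {v : V} (h : MN M (φ.smulRight v)) {g : (Module.End F V)ˣ} (hg : g ∈ M)
    (hgv : (g : Module.End F V) v = v) : MN M ((φ ∘ₗ (g : Module.End F V)).smulRight v) := by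
  have := h.conj (M.inv_mem hg)
  rw [conj_smulRight, inv_inv] at this
  convert this
  conv_lhs => rw [← inv_apply g v, hgv]

/-- One transvection along `v` gives all those killing the line of `v`. -/
theorem full_of_one (hM : ContainsSL K M) (hr : 2 ≤ finrank F K) {v : V} {φ : V →ₗ[F] F} (hφ : φ ≠ 0)
    (hφK : ∀ k : K, φ (k • v) = 0) (h : MN M (φ.smulRight v)) (χ : V →ₗ[F] F)
    (hχ : ∀ k : K, χ (k • v) = 0) : MN M (χ.smulRight v) := by
  obtain ⟨z, hz⟩ : ∃ z, φ z ≠ 0 := by
    by_contra hc
    push Not at hc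
    exact hφ (LinearMap.ext hc)
  have hφv : φ v = 0 := by simpa using hφK 1
  have hτ : φ ∘ₗ smulMap F K z ≠ 0 := fun h0 => hz (by simpa using LinearMap.congr_fun h0 1)
  obtain ⟨g, hg, hgv⟩ := exists_factor hτ χ
  replace hgv := hgv v hχ
  have key : ∀ f : V →ₗ[K] K, χ = φ ∘ₗ (f.smulRight z).restrictScalars F ↔ ∀ u, χ u = φ (f u • z) :=
    fun f => LinearMap.ext_iff
  rw [(key g).2 hg]
  rcases eq_or_ne (g z) 0 with hgz | hgz
  · obtain ⟨-, t, ht, hta⟩ := MN.transvection hM g z hgz
    have h' := h.comp_smulRight ht (by simp [hta, hgv])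
    convert h'.sub_smulRight h (by simp [hta, hgv, hφv]) hφv using 2
    exact LinearMap.ext fun u => by simp [hta]
  · let f : V →ₗ[K] K := (g z)⁻¹ • g
    have hfz : f z = 1 := inv_mul_cancel₀ hgz
    have hfv : f v = 0 := by simp [f, hgv]
    let A : AddSubgroup K :=
      { carrier := {k | MN M ((φ ∘ₗ ((k • f).smulRight z).restrictScalars F).smulRight v)}
        zero_mem' := by
          show MN M _
          convert MN.zero (M := M) using 1
          exact LinearMap.ext fun u => by simp
        add_mem' := fun {a b} ha hb => by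
          show MN M _
          convert ha.add hb (LinearMap.ext fun u => by simp [hfv]) (LinearMap.ext fun u => by simp [hfv]) using 1
          exact LinearMap.ext fun u => by simp [add_mul, add_smul]
        neg_mem' := fun {a} ha => by
          show MN M _
          convert ha.neg using 1
          exact LinearMap.ext fun u => by simp [neg_smul] }
    obtain ⟨k₁, hk₁, hk₁'⟩ := exists_pow_ne_one (F := F) (K := K) hr
    have hA : A = ⊤ := by
      refine addSubgroup_eq_top hr A (fun c hc a ha => ?_)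
        (a := k₁ ^ (Fintype.card F - 1) - 1) ?_ (sub_ne_zero.2 hk₁')
      · obtain ⟨s, hs, hsx⟩ := exists_scaling hM f z hfz c hc
        have h' := MN.comp_smulRight ha hs (by simp [hsx, hfv])
        show MN M _
        convert h' using 2
        refine LinearMap.ext fun u => ?_
        simp only [LinearMap.comp_apply, LinearMap.restrictScalars_apply, LinearMap.smulRight_apply,
          LinearMap.smul_apply, hsx, map_add f, map_smul f, hfz, smul_eq_mul]
        congr 2
        ring
      · obtain ⟨s, hs, hsx⟩ := exists_scaling hM f z hfz k₁ hk₁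
        have h' := h.comp_smulRight hs (by simp [hsx, hfv])
        show MN M _
        convert h'.sub_smulRight h (by simp [hsx, hfv, hφv]) hφv using 2
        exact LinearMap.ext fun u => by simp [hsx]
    have hk : MN M ((φ ∘ₗ (((g z) • f).smulRight z).restrictScalars F).smulRight v) :=
      (hA ▸ AddSubgroup.mem_top _ : g z ∈ A)
    convert hk using 6
    exact (smul_inv_smul₀ hgz g).symm

/-- A transvection along `v` may be replaced by one killing the line of `v`. -/
theorem exists_line_transvection (hM : ContainsSL K M) (hdim : ∀ v : V, ∃ z, z ∉ line F K v) (h : HasT M) :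
    ∃ (v : V) (φ : V →ₗ[F] F), v ≠ 0 ∧ φ ≠ 0 ∧ (∀ k : K, φ (k • v) = 0) ∧ MN M (φ.smulRight v) := by
  obtain ⟨v, φ, hv, hφ, hφv, hmn⟩ := h
  by_cases hK : ∀ k : K, φ (k • v) = 0
  · exact ⟨v, φ, hv, hφ, hK, hmn⟩
  push Not at hK
  obtain ⟨k, hk⟩ := hK
  obtain ⟨z, hz⟩ := hdim v
  obtain ⟨f, hfz, hf⟩ := exists_dual {v} (notMem_span_singleton hz)
  have hfv := hf v rfl
  obtain ⟨-, t, ht, hta⟩ := MN.transvection hM f (k • v) (by simp [hfv])
  have h' := hmn.comp_smulRight ht (by simp [hta, hfv])
  refine ⟨v, φ ∘ₗ (f.smulRight (k • v)).restrictScalars F, hv, fun h0 => ?_, fun s => by simp [hfv], ?_⟩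
  · have := LinearMap.congr_fun h0 z
    simp [hfz, hk] at this
  · convert h'.sub_smulRight hmn (by simp [hta, hfv, hφv]) hφv using 2
    exact LinearMap.ext fun u => by simp [hta]

/-- The main statement. -/
theorem mn_transvection (hM : ContainsSL K M) (hr : (finrank F K).Prime) (hlt : finrank F K < finrank F V)
    {g : (Module.End F V)ˣ} (hg : g ∈ M) {k : K}
    (hne : ∀ k' : K, ∃ x, (g : Module.End F V) (k • ((g⁻¹ : (Module.End F V)ˣ) : Module.End F V) x) ≠ k' • x)
    (v : V) (χ : V →ₗ[F] F) (hχ : χ v = 0) : MN M (χ.smulRight v) := by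
  have hdim : ∀ v : V, ∃ z, z ∉ line F K v := by
    intro v
    by_contra hc
    push Not at hc
    have h1 := LinearMap.finrank_range_le (smulMap F K v)
    rw [show LinearMap.range (smulMap F K v) = ⊤ from eq_top_iff.2 fun z _ => hc z, finrank_top] at h1
    omega
  obtain ⟨g₁, hg₁, v₁, hv₁, hline⟩ := exists_nonline hg hne hdim
  set u₁ := (g₁ : Module.End F V) v₁ with hu₁
  have hu0 : u₁ ≠ 0 := fun h => hv₁ (injective_coe g₁ (by rw [← hu₁, h, map_zero]))
  have hmem : u₁ ∈ (line F K v₁).map (g₁ : Module.End F V) ⊓ line F K u₁ :=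
    ⟨Submodule.mem_map_of_mem (self_mem_line v₁), self_mem_line u₁⟩
  obtain ⟨J, w, x, y, ⟨P⟩⟩ := exists_pair hM hr
    (finrank F K - finrank F ↥((line F K v₁).map (g₁ : Module.End F V) ⊓ line F K u₁)) hg₁ hv₁ hu0 hline
    (fun h => hu0 (by simpa [h] using hmem)) (Nat.add_sub_cancel' (by
      calc _ ≤ finrank F (line F K u₁) := Submodule.finrank_mono inf_le_right
        _ = _ := finrank_line hu0))
  obtain ⟨v₀, φ, hv₀, hφ, hφK, hmn⟩ := exists_line_transvection hM hdim (P.hasT hM hr)
  have hfull₀ := full_of_one hM hr.two_le hφ hφK hmn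
  have step : ∀ a b : V, b ∉ line F K a → a ≠ 0 →
      (∀ χ : V →ₗ[F] F, (∀ k : K, χ (k • a) = 0) → MN M (χ.smulRight a)) →
      ∀ χ : V →ₗ[F] F, (∀ k : K, χ (k • b) = 0) → MN M (χ.smulRight b) := by
    intro a b hb ha hfull χ hχ
    have hb0 : b ≠ 0 := fun h => hb (h ▸ Submodule.zero_mem _)
    have hab : b - a ∉ line F K a := fun h => hb (by simpa using Submodule.add_mem _ h (self_mem_line a))
    have ha' : a ∉ line F K (b - a) := fun h => hab (by rw [line_eq_of_mem h ha]; exact self_mem_line (b - a))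
    obtain ⟨f, hfa, hf⟩ := exists_dual {b - a} (notMem_span_singleton ha')
    obtain ⟨-, t, ht, hta⟩ := MN.transvection hM f (b - a) (hf _ rfl)
    have hta' : (t : Module.End F V) a = b := by simp [hta, hfa]
    have hlin : ∀ k : K, (t : Module.End F V) (k • a) = k • b := fun k => by
      simp [hta, hfa, smul_sub]
    have h1 := (hfull (χ ∘ₗ (t : Module.End F V)) fun k => by simp [hlin, hχ]).conj ht
    rw [conj_smulRight, hta'] at h1
    convert h1 using 2
    exact LinearMap.ext fun u => by simp [apply_inv]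
  have hall : ∀ (a : V) (χ : V →ₗ[F] F), (∀ k : K, χ (k • a) = 0) → MN M (χ.smulRight a) := by
    intro a χ hχ
    rcases eq_or_ne a 0 with rfl | ha
    · convert MN.zero (M := M) using 1
      exact LinearMap.ext fun u => by simp
    by_cases hmem : a ∈ line F K v₀
    · obtain ⟨w, hw⟩ := hdim v₀
      have hw0 : w ≠ 0 := fun h => hw (h ▸ Submodule.zero_mem _)
      have haw : a ∉ line F K w := fun h => hw (by
        rw [← line_eq_of_mem hmem ha, line_eq_of_mem h ha]; exact self_mem_line w)
      exact step w a haw hw0 (step v₀ w hw hv₀ hfull₀) χ hχ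
    · exact step v₀ a hmem hv₀ hfull₀ χ hχ
  by_cases hvK : ∀ k : K, χ (k • v) = 0
  · exact hall v χ hvK
  push Not at hvK
  obtain ⟨kv, hkv⟩ := hvK
  have hτ : χ ∘ₗ smulMap F K v ≠ 0 := fun h => hkv (by simpa using LinearMap.congr_fun h kv)
  obtain ⟨G, hG, -⟩ := exists_factor hτ χ
  have hG' : ∀ u, χ u = χ (G u • v) := hG
  have hv0 : v ≠ 0 := fun h => hkv (by simp [h])
  have hGv : G v ≠ 0 := fun h => hkv (by
    rw [hG' (kv • v), map_smul G, h, smul_zero, zero_smul, map_zero])
  obtain ⟨z, hz⟩ := hdim v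
  set w := z - (G z / G v) • v with hwdef
  have hGw : G w = 0 := by rw [hwdef, map_sub, map_smul, smul_eq_mul, div_mul_cancel₀ _ hGv, sub_self]
  have hwv : w ∉ line F K v := fun h => hz (by
    have := Submodule.add_mem _ h (show (G z / G v) • v ∈ line F K v from ⟨_, rfl⟩)
    rwa [hwdef, sub_add_cancel] at this)
  have hχw : ∀ k : K, χ (k • w) = 0 := fun k => by rw [hG', map_smul G, hGw, smul_zero, zero_smul, map_zero]
  obtain ⟨e, he, heK⟩ := Submodule.exists_dual_map_eq_bot_of_notMem (p := line F K v) hwv inferInstance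
  let φ' : V →ₗ[F] F := (e w)⁻¹ • e
  have hφ'K : ∀ k : K, φ' (k • v) = 0 := fun k => by
    have : e (k • v) ∈ (line F K v).map e := ⟨_, ⟨k, rfl⟩, rfl⟩
    rw [heK, Submodule.mem_bot] at this
    simp [φ', this]
  have hφ'w : φ' w = 1 := inv_mul_cancel₀ he
  convert (hall w χ hχw).comm (hall v φ' hφ'K) (LinearMap.ext fun u => by simp [hχ]) using 1
  exact LinearMap.ext fun u => by simp [hφ'w]

end Cfsg.Agent.H98.ExtField
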