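import Mathlib
import Cfsg.Agent.H98.FieldSubalg

/-!
Units `1 + N` (`N * N = 0`) in a group of invertible `F`-linear maps, and the powers `k ^ (q - 1)` in a finite
extension of a finite field.
-/

set_option autoImplicit false

namespace Cfsg.Agent.H98.ExtField

open Module

section Powers

variable {F : Type*} [Field F] [Fintype F] {K : Type*} [Field K] [Algebra F K] [FiniteDimensional F K]

theorem exists_pow_ne_one (h : 2 ≤ finrank F K) :
    ∃ k : K, k ≠ 0 ∧ k ^ (Fintype.card F - 1) ≠ 1 := by
  classical
  haveI : Finite K := Module.finite_of_finite F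
  by_contra hc
  push Not at hc
  obtain ⟨g, hg⟩ := IsCyclic.exists_generator (α := Kˣ)
  have h1 : orderOf g ∣ Fintype.card F - 1 :=
    orderOf_dvd_of_pow_eq_one (Units.ext (by simpa using hc g g.ne_zero))
  rw [orderOf_eq_card_of_forall_mem_zpowers hg, Nat.card_units, Module.natCard_eq_pow_finrank (K := F),
    Nat.card_eq_fintype_card] at h1
  have hq : 2 ≤ Fintype.card F := Fintype.one_lt_card
  have h3 : Fintype.card F ^ 2 ≤ Fintype.card F ^ finrank F K := Nat.pow_le_pow_right (by omega) h
  have h4 : Fintype.card F * 2 ≤ Fintype.card F ^ finrank F K :=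
    le_trans (by rw [sq]; exact Nat.mul_le_mul_left _ hq) h3
  have h2 := Nat.le_of_dvd (by omega) h1
  omega

theorem subring_eq_top (h : 2 ≤ finrank F K) (S : Subring K)
    (hS : ∀ k : K, k ^ (Fintype.card F - 1) ∈ S) : S = ⊤ := by
  classical
  haveI : Finite K := Module.finite_of_finite F
  haveI := Fintype.ofFinite K
  have hq : 2 ≤ Fintype.card F := Fintype.one_lt_card
  have hfib : Fintype.card K ≤ (Fintype.card F - 1) * Fintype.card S := by
    have := Finset.card_le_mul_card_image_of_maps_to
      (f := fun k : K => (⟨k ^ (Fintype.card F - 1), hS k⟩ : S)) (s := Finset.univ) (t := Finset.univ)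
      (fun _ _ => Finset.mem_univ _) (Fintype.card F - 1) (fun b _ => ?_)
    · simpa using this
    · calc _ ≤ (Polynomial.nthRoots (Fintype.card F - 1) (b : K)).toFinset.card := by
            apply Finset.card_le_card
            intro a ha
            rw [Finset.mem_filter, Subtype.ext_iff] at ha
            rw [Multiset.mem_toFinset, Polynomial.mem_nthRoots (by omega)]
            exact ha.2
        _ ≤ _ := (Multiset.toFinset_card_le _).trans (Polynomial.card_nthRoots _ _)
  by_contra hne
  letI : Field S := (Finite.isField_of_domain S).toField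
  haveI : Module.Finite S K := Module.Finite.of_finite
  have hcard : Fintype.card K = Fintype.card S ^ finrank S K := Module.card_eq_pow_finrank
  have hj : 2 ≤ finrank S K := by
    by_contra hlt
    have hpos : 0 < finrank S K := finrank_pos
    have h1 : finrank S K = 1 := by omega
    apply hne
    rw [eq_top_iff]
    intro x _
    obtain ⟨c, hc⟩ := (finrank_eq_one_iff_of_nonzero' (1 : K) one_ne_zero).1 h1 x
    rw [← hc, Subring.smul_def, smul_eq_mul, mul_one]
    exact c.2
  have hK : Fintype.card K = Fintype.card F ^ finrank F K := Module.card_eq_pow_finrank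
  have hF : Fintype.card F ^ 2 ≤ Fintype.card F ^ finrank F K := Nat.pow_le_pow_right (by omega) h
  have hspos : 0 < Fintype.card S := Fintype.card_pos
  have h2 : Fintype.card S ^ 2 ≤ Fintype.card S ^ finrank S K := Nat.pow_le_pow_right hspos hj
  have h3 : Fintype.card S ≤ Fintype.card F - 1 := by
    refine Nat.le_of_mul_le_mul_right ?_ hspos
    calc Fintype.card S * Fintype.card S = Fintype.card S ^ 2 := (sq _).symm
      _ ≤ _ := by rw [← hcard] at h2; exact h2.trans hfib
  nlinarith [Nat.sub_add_cancel (show 1 ≤ Fintype.card F by omega)]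

/-- An additive subgroup stable under all `(q - 1)`-st powers is trivial or everything. -/
theorem addSubgroup_eq_top (h : 2 ≤ finrank F K) (A : AddSubgroup K)
    (hA : ∀ k : K, k ≠ 0 → ∀ a ∈ A, k ^ (Fintype.card F - 1) * a ∈ A) {a : K} (ha : a ∈ A) (ha0 : a ≠ 0) :
    A = ⊤ := by
  have hq : 2 ≤ Fintype.card F := Fintype.one_lt_card
  let S : Subring K :=
    { carrier := {s | ∀ x ∈ A, s * x ∈ A}
      mul_mem' := fun {s t} hs ht x hx => by rw [mul_assoc]; exact hs _ (ht x hx)
      one_mem' := fun x hx => by rwa [one_mul]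
      add_mem' := fun {s t} hs ht x hx => by rw [add_mul]; exact A.add_mem (hs x hx) (ht x hx)
      zero_mem' := fun x hx => by rw [zero_mul]; exact A.zero_mem
      neg_mem' := fun {s} hs x hx => by rw [neg_mul]; exact A.neg_mem (hs x hx) }
  have hS : S = ⊤ := subring_eq_top h S fun k x hx => by
    rcases eq_or_ne k 0 with rfl | hk
    · rw [zero_pow (by omega), zero_mul]; exact A.zero_mem
    · exact hA k hk x hx
  rw [eq_top_iff]
  intro x _
  have hx : x * a⁻¹ ∈ S := hS ▸ Subring.mem_top _
  have := hx a ha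
  rwa [mul_assoc, inv_mul_cancel₀ ha0, mul_one] at this

end Powers

section Units

variable {F : Type*} [Field F] {V : Type*} [AddCommGroup V] [Module F V]

/-- `N` squares to zero and `1 + N` lies in `M`. -/
def MN (M : Subgroup (Module.End F V)ˣ) (N : Module.End F V) : Prop :=
  N * N = 0 ∧ ∃ u ∈ M, (u : Module.End F V) = 1 + N

variable {M : Subgroup (Module.End F V)ˣ}

theorem coe_inv_of_eq {N : Module.End F V} (hN : N * N = 0) {u : (Module.End F V)ˣ}
    (hu : (u : Module.End F V) = 1 + N) : ((u⁻¹ : (Module.End F V)ˣ) : Module.End F V) = 1 - N :=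
  Units.inv_eq_of_mul_eq_one_right (by rw [hu, add_mul, one_mul, mul_sub, mul_one, hN]; abel)

theorem MN.zero : MN M 0 := ⟨mul_zero 0, 1, M.one_mem, by simp⟩

theorem MN.neg {N : Module.End F V} (h : MN M N) : MN M (-N) := by
  obtain ⟨hN, u, hu, huN⟩ := h
  exact ⟨by rw [neg_mul_neg, hN], u⁻¹, M.inv_mem hu, by rw [coe_inv_of_eq hN huN, sub_eq_add_neg]⟩

theorem MN.add {A B : Module.End F V} (hA : MN M A) (hB : MN M B) (hab : A * B = 0) (hba : B * A = 0) :
    MN M (A + B) := by
  obtain ⟨hA2, u, hu, huA⟩ := hA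
  obtain ⟨hB2, v, hv, hvB⟩ := hB
  refine ⟨?_, u * v, M.mul_mem hu hv, ?_⟩
  · rw [add_mul, mul_add, mul_add, hA2, hB2, hab, hba]; simp
  · rw [Units.val_mul, huA, hvB, add_mul, one_mul, mul_add, mul_one, hab]; abel

theorem MN.sub {A B : Module.End F V} (hA : MN M A) (hB : MN M B) (hab : A * B = 0) (hba : B * A = 0) :
    MN M (A - B) := by
  rw [sub_eq_add_neg]
  exact hA.add hB.neg (by rw [mul_neg, hab, neg_zero]) (by rw [neg_mul, hba, neg_zero])

theorem MN.conj {N : Module.End F V} (h : MN M N) {g : (Module.End F V)ˣ} (hg : g ∈ M) :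
    MN M ((g : Module.End F V) * N * ((g⁻¹ : (Module.End F V)ˣ) : Module.End F V)) := by
  obtain ⟨hN, u, hu, huN⟩ := h
  refine ⟨?_, g * u * g⁻¹, M.mul_mem (M.mul_mem hg hu) (M.inv_mem hg), ?_⟩
  · simp only [mul_assoc, Units.inv_mul_cancel_left]
    rw [← mul_assoc N, hN, zero_mul, mul_zero]
  · rw [Units.val_mul, Units.val_mul, huN, mul_add, mul_one, add_mul, Units.mul_inv]

/-- If `A * B = 0` then the commutator of `1 + B` and `1 + A` is `1 + B * A`. -/
theorem MN.comm {A B : Module.End F V} (hA : MN M A) (hB : MN M B) (hab : A * B = 0) : MN M (B * A) := by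
  obtain ⟨hA2, u, hu, huA⟩ := hA
  obtain ⟨hB2, v, hv, hvB⟩ := hB
  have z1 : ∀ X : Module.End F V, A * (B * X) = 0 := fun X => by rw [← mul_assoc, hab, zero_mul]
  have z2 : ∀ X : Module.End F V, A * (A * X) = 0 := fun X => by rw [← mul_assoc, hA2, zero_mul]
  have z3 : ∀ X : Module.End F V, B * (B * X) = 0 := fun X => by rw [← mul_assoc, hB2, zero_mul]
  refine ⟨by rw [mul_assoc, z1, mul_zero], v * u * v⁻¹ * u⁻¹,
    M.mul_mem (M.mul_mem (M.mul_mem hv hu) (M.inv_mem hv)) (M.inv_mem hu), ?_⟩
  rw [Units.val_mul, Units.val_mul, Units.val_mul, coe_inv_of_eq hA2 huA, coe_inv_of_eq hB2 hvB, huA, hvB]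
  simp only [add_mul, mul_add, sub_mul, mul_sub, one_mul, mul_one, mul_assoc, hab, hA2, hB2, z1, z2, z3,
    mul_zero, zero_mul, add_zero, sub_zero]
  abel

theorem det_one_add [Fintype F] [FiniteDimensional F V] {N : Module.End F V} (hN : N * N = 0) :
    LinearMap.det (1 + N) = 1 := by
  let b := Module.finBasis F V
  rw [← LinearMap.det_toMatrix b, map_add, LinearMap.toMatrix_one]
  exact det_eq_one_of_sq_zero _ (by rw [← LinearMap.toMatrix_mul, hN, map_zero])

end Units

section Linear

variable {F : Type*} [Field F] [Fintype F] {K : Type*} [Field K] [Algebra F K]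
  {V : Type*} [AddCommGroup V] [Module F V] [Module K V] [IsScalarTower F K V] [FiniteDimensional F V]
  {M : Subgroup (Module.End F V)ˣ}

variable (K M) in
/-- `M` contains every invertible `K`-linear map of determinant one over `F`. -/
def ContainsSL : Prop :=
  ∀ u : (Module.End F V)ˣ, (∀ (k : K) (x : V), (u : Module.End F V) (k • x) = k • (u : Module.End F V) x) →
    LinearMap.det (u : Module.End F V) = 1 → u ∈ M

theorem MN.of_linear (hM : ContainsSL K M) (N : V →ₗ[K] V) (hN : ∀ x, N (N x) = 0) :
    MN M (N.restrictScalars F) := by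
  have h2 : N.restrictScalars F * N.restrictScalars F = 0 := LinearMap.ext fun x => hN x
  refine ⟨h2, ⟨1 + N.restrictScalars F, 1 - N.restrictScalars F, ?_, ?_⟩, ?_, rfl⟩
  · rw [add_mul, one_mul, mul_sub, mul_one, h2]; abel
  · rw [sub_mul, one_mul, mul_add, mul_one, h2]; abel
  · refine hM _ (fun k x => ?_) (det_one_add h2)
    simp [smul_add]

theorem MN.transvection (hM : ContainsSL K M) (f : V →ₗ[K] K) (v : V) (hfv : f v = 0) :
    MN M ((f.smulRight v).restrictScalars F) :=
  MN.of_linear hM _ fun x => by simp [hfv]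

/-- For `f w = 1`, the map multiplying `w` by a `(q - 1)`-st power and fixing `ker f` lies in `M`. -/
theorem exists_scaling (hM : ContainsSL K M) (f : V →ₗ[K] K) (w : V) (hfw : f w = 1) (k : K) (hk : k ≠ 0) :
    ∃ u ∈ M, ∀ x, (u : Module.End F V) x = x + ((k ^ (Fintype.card F - 1) - 1) * f x) • w := by
  let H : K →* Module.End F V :=
    { toFun := fun c => (LinearMap.id + (c - 1) • f.smulRight w : V →ₗ[K] V).restrictScalars F
      map_one' := LinearMap.ext fun x => by simp
      map_mul' := fun c d => LinearMap.ext fun x => by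
        simp only [Module.End.mul_apply, LinearMap.restrictScalars_apply, LinearMap.add_apply, LinearMap.id_apply,
          LinearMap.smul_apply, LinearMap.smulRight_apply, map_add, map_smul, hfw, smul_eq_mul, mul_one]
        module }
  have hH : ∀ c x, H c x = x + ((c - 1) * f x) • w := fun c x => by simp [H, smul_smul]
  refine ⟨Units.map H ((Units.mk0 k hk) ^ (Fintype.card F - 1)), hM _ (fun a x => ?_) ?_, fun x => ?_⟩
  · rw [Units.coe_map]
    simp only [hH, map_smul, smul_eq_mul, smul_add, smul_smul]
    congr 2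
    ring
  · rw [Units.coe_map, Units.val_pow_eq_pow_val, map_pow, map_pow]
    exact FiniteField.pow_card_sub_one_eq_one _
      ((((Units.mk0 k hk).isUnit.map H).map LinearMap.det).ne_zero)
  · rw [Units.coe_map, Units.val_pow_eq_pow_val, Units.val_mk0]
    exact hH _ x

end Linear

end Cfsg.Agent.H98.ExtField
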