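import Cfsg.Agent.H98.ExtField.Basic

/-!
A transvection from two spaces meeting in a hyperplane of each: a `K`-line `K w` and the image of a line under a map
that is not semilinear over `K`.
-/

set_option autoImplicit false

namespace Cfsg.Agent.H98.ExtField

open Module

variable {F : Type*} [Field F] [Fintype F] {K : Type*} [Field K] [Algebra F K]
  {V : Type*} [AddCommGroup V] [Module F V] [Module K V] [IsScalarTower F K V] [FiniteDimensional F V]
  {M : Subgroup (Module.End F V)ˣ}

/-- `M` contains a transvection. -/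
def HasT (M : Subgroup (Module.End F V)ˣ) : Prop :=
  ∃ (v : V) (φ : V →ₗ[F] F), v ≠ 0 ∧ φ ≠ 0 ∧ φ v = 0 ∧ MN M (φ.smulRight v)

/-- The data of a `K`-line `K w` and a subspace `J w + F x`, with the maps killing and filling the latter. -/
structure Pair (M : Subgroup (Module.End F V)ˣ) (J : Submodule F K) (w x : V) (y : K) where
  f : V →ₗ[K] K
  g : V →ₗ[K] K
  hfw : f w = 1
  hfx : f x = 0
  hgw : g w = 0
  hgx : g x = 1
  ψ : K →ₗ[F] F
  hJ : ∀ k, k ∈ J ↔ ψ k = 0
  hψ : ψ y = 1
  h1 : ψ 1 = 0
  hb : ∀ z : V, (∃ j ∈ J, ∃ c : F, z = j • w + c • x) → ∃ b : Module.End F V, MN M b ∧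
    (∀ k : K, b (k • w) = ψ k • z) ∧ b x = 0 ∧ ∀ u, ∃ j ∈ J, ∃ c : F, b u = j • w + c • x

namespace Pair

variable {J : Submodule F K} {w x : V} {y : K} (P : Pair M J w x y)

include P

theorem w_ne : w ≠ 0 := fun h => by
  have := congrArg P.f h
  rw [P.hfw, map_zero] at this
  exact one_ne_zero this

theorem x_ne : x ≠ 0 := fun h => by
  have := congrArg P.g h
  rw [P.hgx, map_zero] at this
  exact one_ne_zero this

theorem hasT_of_notMem {a : Module.End F V} (ha : MN M a) (hw : ∀ k : K, a (k • w) = 0) (hx : a x = 0)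
    (hU : ∀ u, ∃ k : K, a u = k • w) (h : ∃ u, P.f (a u) ∉ J) : HasT M := by
  obtain ⟨b, hb, hbw, hbx, hbU⟩ := P.hb w ⟨1, (P.hJ 1).2 P.h1, 0, by simp⟩
  have hab : a * b = 0 := LinearMap.ext fun u => by
    obtain ⟨j, -, c, hu⟩ := hbU u
    simp [hu, hw, hx]
  refine ⟨w, P.ψ ∘ₗ (P.f.restrictScalars F) ∘ₗ a, P.w_ne, ?_, ?_, ?_⟩
  · obtain ⟨u, hu⟩ := h
    intro h0
    exact hu ((P.hJ _).2 (by simpa using LinearMap.congr_fun h0 u))
  · have := hw 1
    rw [one_smul] at this
    simp [this]
  · convert MN.comm ha hb hab using 1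
    refine LinearMap.ext fun u => ?_
    obtain ⟨k, hk⟩ := hU u
    simp [hk, hbw, P.hfw]

theorem hasT_of_ne_zero [FiniteDimensional F K] (hM : ContainsSL K M) (hr : 2 ≤ finrank F K)
    {a : Module.End F V} (ha : MN M a) (hw : ∀ k : K, a (k • w) = 0) (hx : a x = 0)
    (hU : ∀ u, ∃ k : K, a u = k • w) (hne : a ≠ 0) : HasT M := by
  obtain ⟨u₀, hu₀⟩ : ∃ u, a u ≠ 0 := by
    by_contra hc
    push Not at hc
    exact hne (LinearMap.ext hc)
  obtain ⟨k₀, hk₀⟩ := hU u₀
  have hk0 : k₀ ≠ 0 := by
    rintro rfl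
    exact hu₀ (by rw [hk₀, zero_smul])
  obtain ⟨t, ht, htJ⟩ : ∃ t : K, t ≠ 0 ∧ t ^ (Fintype.card F - 1) * k₀ ∉ J := by
    by_contra hc
    push Not at hc
    let A : AddSubgroup K :=
      { carrier := {s | ∀ t : K, t ≠ 0 → t ^ (Fintype.card F - 1) * s ∈ J}
        add_mem' := fun hs hs' t ht => by rw [mul_add]; exact J.add_mem (hs t ht) (hs' t ht)
        zero_mem' := fun t _ => by rw [mul_zero]; exact J.zero_mem
        neg_mem' := fun hs t ht => by rw [mul_neg]; exact J.neg_mem (hs t ht) }
    have hA : A = ⊤ := addSubgroup_eq_top hr A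
      (fun k hk s hs t ht => by rw [← mul_assoc, ← mul_pow]; exact hs _ (mul_ne_zero ht hk))
      (show k₀ ∈ A from hc) hk0
    have hy : y ∈ A := hA ▸ AddSubgroup.mem_top y
    have := (P.hJ _).1 (hy 1 one_ne_zero)
    rw [one_pow, one_mul, P.hψ] at this
    exact one_ne_zero this
  obtain ⟨s, hs, hsx⟩ := exists_scaling hM P.f w P.hfw t ht
  set c := t ^ (Fintype.card F - 1)
  have hc : c ≠ 0 := pow_ne_zero _ ht
  have hsk : ∀ k : K, (s : Module.End F V) (k • w) = (c * k) • w := fun k => by
    rw [hsx, map_smul, P.hfw, smul_eq_mul, mul_one, ← add_smul]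
    congr 1
    ring
  have hs_inv : ∀ v z, (s : Module.End F V) v = z → ((s⁻¹ : (Module.End F V)ˣ) : Module.End F V) z = v := by
    rintro v _ rfl
    rw [← Module.End.mul_apply, Units.inv_mul, Module.End.one_apply]
  refine hasT_of_notMem P (ha.conj hs) (fun k => ?_) ?_ (fun u => ?_) ⟨(s : Module.End F V) u₀, ?_⟩
  · rw [Module.End.mul_apply, Module.End.mul_apply,
      hs_inv ((c⁻¹ * k) • w) _ (by rw [hsk, mul_inv_cancel_left₀ hc]), hw, map_zero]
  · rw [Module.End.mul_apply, Module.End.mul_apply, hs_inv x x (by simp [hsx, P.hfx]), hx, map_zero]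
  · obtain ⟨k, hk⟩ := hU (((s⁻¹ : (Module.End F V)ˣ) : Module.End F V) u)
    exact ⟨c * k, by rw [Module.End.mul_apply, Module.End.mul_apply, hk, hsk]⟩
  · rw [Module.End.mul_apply, Module.End.mul_apply, hs_inv u₀ _ rfl, hk₀, hsk, map_smul, P.hfw, smul_eq_mul,
      mul_one]
    exact htJ

/-- The maps `k ↦ k + a ψ k` are multiplicative unless `M` contains a transvection. -/
theorem hasT_or_mul [FiniteDimensional F K] (hM : ContainsSL K M) (hr : 2 ≤ finrank F K) (a : F) :
    HasT M ∨ ∀ s k : K, s * k + algebraMap F K (a * P.ψ (s * k)) =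
      (s + algebraMap F K (a * P.ψ s)) * (k + algebraMap F K (a * P.ψ k)) := by
  obtain ⟨b, ⟨hb2, u, hu, hub⟩, hbw, hbx, -⟩ :=
    P.hb (a • w) ⟨algebraMap F K a * 1, (P.hJ _).2 (by
      rw [← Algebra.smul_def, map_smul, P.h1, smul_zero]), 0, by simp⟩
  let T : K → K := fun k => k + algebraMap F K (a * P.ψ k)
  have hu' := coe_inv_of_eq hb2 hub
  have hbT : ∀ k : K, (u : Module.End F V) (k • w) = T k • w := fun k => by
    rw [hub, LinearMap.add_apply, Module.End.one_apply, hbw, add_smul, algebraMap_smul, smul_smul, mul_comm]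
  have hinv : ∀ k : K, ∃ s : K, ((u⁻¹ : (Module.End F V)ˣ) : Module.End F V) (k • w) = s • w := fun k => by
    refine ⟨k - algebraMap F K (P.ψ k * a), ?_⟩
    rw [hu', LinearMap.sub_apply, Module.End.one_apply, hbw, sub_smul, algebraMap_smul, smul_smul]
  have hux : ((u⁻¹ : (Module.End F V)ˣ) : Module.End F V) x = x := by
    rw [hu', LinearMap.sub_apply, Module.End.one_apply, hbx, sub_zero]
  let N : K → Module.End F V := fun k => (P.g.smulRight (k • w)).restrictScalars F
  have hN : ∀ k v, N k v = (P.g v * k) • w := fun k v => by simp [N, smul_smul]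
  let D : K → Module.End F V := fun k =>
    (u : Module.End F V) * N k * ((u⁻¹ : (Module.End F V)ˣ) : Module.End F V) - N (T k)
  have hJk : ∀ k v, ∃ s : K, ((u : Module.End F V) * N k * ((u⁻¹ : (Module.End F V)ˣ) : Module.End F V)) v = s • w :=
    fun k v => ⟨T (P.g (((u⁻¹ : (Module.End F V)ˣ) : Module.End F V) v) * k), by
      rw [Module.End.mul_apply, Module.End.mul_apply, hN, hbT]⟩
  have hJw : ∀ k s, ((u : Module.End F V) * N k * ((u⁻¹ : (Module.End F V)ˣ) : Module.End F V)) (s • w) = 0 :=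
    fun k s => by
      obtain ⟨s', hs'⟩ := hinv s
      rw [Module.End.mul_apply, Module.End.mul_apply, hs', hN, map_smul P.g s' w, P.hgw,
        smul_zero, zero_mul, zero_smul, map_zero]
  have hNw : ∀ k s, N k (s • w) = 0 := fun k s => by rw [hN, map_smul, P.hgw, smul_zero, zero_mul, zero_smul]
  by_cases hD : ∃ k, D k ≠ 0
  · obtain ⟨k, hk⟩ := hD
    refine Or.inl (hasT_of_ne_zero P hM hr (a := D k) ?_ (fun s => ?_) ?_ (fun v => ?_) hk)
    · refine MN.sub ((MN.transvection hM P.g (k • w) (by rw [map_smul, P.hgw, smul_zero])).conj hu)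
        (MN.transvection hM P.g (T k • w) (by rw [map_smul, P.hgw, smul_zero]))
        (LinearMap.ext fun v => ?_) (LinearMap.ext fun v => ?_)
      · rw [Module.End.mul_apply]
        show ((u : Module.End F V) * N k * _) (N (T k) v) = 0
        rw [hN, hJw]
      · rw [Module.End.mul_apply]
        obtain ⟨s, hs⟩ := hJk k v
        show N (T k) (((u : Module.End F V) * N k * _) v) = 0
        rw [hs, hNw]
    · rw [LinearMap.sub_apply, hJw, hNw, sub_zero]
    · rw [LinearMap.sub_apply, Module.End.mul_apply, Module.End.mul_apply, hux, hN, hN, P.hgx, hbT, one_mul,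
        one_mul, sub_self]
    · obtain ⟨s, hs⟩ := hJk k v
      exact ⟨s - P.g v * T k, by rw [LinearMap.sub_apply, hs, hN, sub_smul]⟩
  · push Not at hD
    let S : K → K := fun t => P.g (((u⁻¹ : (Module.End F V)ˣ) : Module.End F V) (t • x))
    have hTS : ∀ t k, T (S t * k) = t * T k := fun t k => by
      have h := LinearMap.congr_fun (hD k) (t • x)
      rw [LinearMap.sub_apply, LinearMap.zero_apply, sub_eq_zero, Module.End.mul_apply, Module.End.mul_apply, hN,
        hN, hbT, map_smul P.g t x, P.hgx, smul_eq_mul, mul_one] at h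
      have := congrArg P.f h
      simpa only [map_smul, P.hfw, smul_eq_mul, mul_one] using this
    have hT1 : T 1 = 1 := by simp [T, P.h1]
    have hinj : ∀ k k', T k = T k' → k = k' := fun k k' h => by
      have h1 : P.ψ (k - k') = P.ψ (algebraMap F K (a * (P.ψ k' - P.ψ k))) := congrArg P.ψ (by
        rw [mul_sub, map_sub]; linear_combination h)
      rw [Algebra.algebraMap_eq_smul_one, map_smul, P.h1, smul_zero, map_sub, sub_eq_zero] at h1
      simpa [T, h1] using h
    refine Or.inr fun s k => ?_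
    have h1 := hTS (T s) 1
    rw [mul_one, hT1, mul_one] at h1
    have h2 := hTS (T s) k
    rwa [hinj _ _ h1] at h2

/-- Four vectors spanning `V` over `F` when `V = K w ⊕ K x` and `K = F + F y`. -/
theorem ext_four (hfg : ∀ u, u = P.f u • w + P.g u • x) (hK : ∀ k : K, ∃ a c : F, k = a • (1 : K) + c • y)
    {A B : Module.End F V} (h1 : A w = B w) (h2 : A (y • w) = B (y • w)) (h3 : A x = B x)
    (h4 : A (y • x) = B (y • x)) : A = B := by
  refine LinearMap.ext fun u => ?_
  obtain ⟨a, c, ha⟩ := hK (P.f u)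
  obtain ⟨a', c', ha'⟩ := hK (P.g u)
  rw [hfg u, ha, ha']
  simp only [add_smul, smul_assoc, one_smul, map_add, map_smul, h1, h2, h3, h4]

/-- The case `|F| = 2`, `|K| = 4`, `dim_K V = 2`. -/
theorem hasT_of_four (hM : ContainsSL K M) (hF : ∀ a : F, a = 0 ∨ a = 1) (h2 : (1 : F) + 1 = 0)
    (hy : y * y = y + 1) (hK : ∀ k : K, ∃ a c : F, k = a • (1 : K) + c • y)
    (hfg : ∀ u, u = P.f u • w + P.g u • x) : HasT M := by
  have hadd : ∀ v : V, v + v = 0 := fun v => by
    have := congrArg (fun a : F => a • v) h2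
    simpa [add_smul] using this
  have hadd2 : ∀ u v : V, u + (u + v) = v := fun u v => by rw [← add_assoc, hadd, zero_add]
  have haddF : ∀ a : F, a + a = 0 := fun a => by rw [← two_mul, ← one_add_one_eq_two, h2, zero_mul]
  have haddK : ∀ k : K, k + k = 0 := fun k => by
    have := congrArg (fun a : F => a • k) h2
    simpa [add_smul] using this
  obtain ⟨b, ⟨hb2, c, hc, hcb⟩, hbw, hbx, hbU⟩ := P.hb x ⟨0, J.zero_mem, 1, by simp⟩
  have bw : b w = 0 := by
    have := hbw 1
    rwa [one_smul, P.h1, zero_smul] at this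
  have byw : b (y • w) = x := by rw [hbw, P.hψ, one_smul]
  have hψK : ∀ a d : F, P.ψ (a • (1 : K) + d • y) = d := fun a d => by simp [P.h1, P.hψ]
  obtain ⟨j, hj, μ, hbyx⟩ := hbU (y • x)
  obtain ⟨ε, d, hjd⟩ := hK j
  have hd : d = 0 := by rw [← hψK ε d, ← hjd]; exact (P.hJ j).1 hj
  rw [hjd, hd, zero_smul, add_zero, smul_assoc, one_smul] at hbyx
  have cw : (c : Module.End F V) w = w := by simp [hcb, bw]
  have cx : (c : Module.End F V) x = x := by simp [hcb, hbx]
  have cyw : (c : Module.End F V) (y • w) = y • w + x := by simp [hcb, byw]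
  have cyx : (c : Module.End F V) (y • x) = y • x + (ε • w + μ • x) := by simp [hcb, hbyx]
  have hdet : ∀ u : (Module.End F V)ˣ, LinearMap.det (u : Module.End F V) = 1 := fun u =>
    (hF _).resolve_left (u.isUnit.map LinearMap.det).ne_zero
  have hyy : ∀ v : V, y • y • v = y • v + v := fun v => by rw [smul_smul, hy, add_smul, one_smul]
  rcases hF ε with rfl | rfl
  · let φ : V →ₗ[F] F := P.ψ ∘ₗ P.f.restrictScalars F + μ • (P.ψ ∘ₗ P.g.restrictScalars F)
    refine ⟨x, φ, P.x_ne, fun h0 => ?_, by simp [φ, P.hfx, P.hgx, P.h1], ?_⟩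
    · have := LinearMap.congr_fun h0 (y • w)
      simp [φ, P.hfw, P.hgw, P.hψ] at this
    · have he : φ.smulRight x = b := by
        refine P.ext_four hfg hK ?_ ?_ ?_ ?_ <;>
          simp [φ, P.hfw, P.hgw, P.hfx, P.hgx, P.hψ, P.h1, bw, byw, hbx, hbyx]
      rw [he]
      exact ⟨hb2, c, hc, hcb⟩
  · rcases hF μ with rfl | rfl
    · rw [one_smul, zero_smul, add_zero] at cyx
      let kl : V →ₗ[K] V := P.f.smulRight w + (y • P.g).smulRight x
      let ki : V →ₗ[K] V := P.f.smulRight w + ((1 + y) • P.g).smulRight x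
      have hkk : ∀ v, kl (ki v) = v ∧ ki (kl v) = v := fun v => by
        have e : y * (1 + y) = 1 := by rw [mul_add, mul_one, hy, ← add_assoc, haddK, zero_add]
        have e' : (1 + y) * y = 1 := by rw [mul_comm, e]
        simp [kl, ki, P.hfw, P.hgw, P.hfx, P.hgx, ← mul_assoc, e, e', ← hfg v]
      let k : (Module.End F V)ˣ := ⟨kl.restrictScalars F, ki.restrictScalars F,
        LinearMap.ext fun v => (hkk v).1, LinearMap.ext fun v => (hkk v).2⟩
      have hk : k ∈ M := hM k (fun a v => kl.map_smul a v) (hdet k)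
      have kw : (k : Module.End F V) w = w := by simp [k, kl, P.hfw, P.hgw]
      have kx : (k : Module.End F V) x = y • x := by simp [k, kl, P.hfx, P.hgx]
      have kyw : (k : Module.End F V) (y • w) = y • w := by simp [k, kl, P.hfw, P.hgw]
      have kyx : (k : Module.End F V) (y • x) = y • x + x := by simp [k, kl, P.hfx, P.hgx, hyy]
      let φ : V →ₗ[F] F := P.ψ ∘ₗ P.f.restrictScalars F
      refine ⟨w, φ, P.w_ne, fun h0 => ?_, by simp [φ, P.hfw, P.h1], ?_, (c * k) ^ 3,
        pow_mem (M.mul_mem hc hk) 3, ?_⟩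
      · have := LinearMap.congr_fun h0 (y • w)
        simp [φ, P.hfw, P.hψ] at this
      · refine LinearMap.ext fun v => ?_
        simp [φ, P.hfw, P.h1]
      · simp only [pow_three, Units.val_mul]
        refine P.ext_four hfg hK ?_ ?_ ?_ ?_ <;>
          simp only [Module.End.mul_apply, LinearMap.add_apply, Module.End.one_apply, LinearMap.smulRight_apply,
            φ, LinearMap.comp_apply, LinearMap.restrictScalars_apply, map_smul, smul_eq_mul, mul_one, P.hfw, P.hfx,
            P.hψ, P.h1, map_add, map_zero, zero_smul, one_smul, smul_zero, kw, kx, kyw, kyx, cw, cx, cyw, cyx]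
        all_goals simp [hadd, hadd2, add_assoc, add_comm, add_left_comm]
    · rw [one_smul, one_smul] at cyx
      let kl : V →ₗ[K] V := (P.f + (1 + y) • P.g).smulRight w + ((1 + y) • P.f).smulRight x
      let ki : V →ₗ[K] V := (y • P.g).smulRight w + (y • P.f + (1 + y) • P.g).smulRight x
      have hkk : ∀ v, kl (ki v) = v ∧ ki (kl v) = v := fun v => by
        constructor <;>
        · refine Eq.trans ?_ (hfg v).symm
          simp only [kl, ki, LinearMap.add_apply, LinearMap.smulRight_apply, LinearMap.smul_apply, map_add,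
            map_smul, P.hfw, P.hgw, P.hfx, P.hgx, smul_eq_mul, mul_zero, mul_one, add_zero, zero_add]
          have := haddK 1
          match_scalars <;> grind
      let k : (Module.End F V)ˣ := ⟨kl.restrictScalars F, ki.restrictScalars F,
        LinearMap.ext fun v => (hkk v).1, LinearMap.ext fun v => (hkk v).2⟩
      have hk : k ∈ M := hM k (fun a v => kl.map_smul a v) (hdet k)
      have kw : (k : Module.End F V) w = w + x + y • x := by
        simp [k, kl, P.hfw, P.hgw, add_smul, add_assoc]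
      have kx : (k : Module.End F V) x = w + y • w := by simp [k, kl, P.hfx, P.hgx, add_smul]
      have kyw : (k : Module.End F V) (y • w) = y • w + x := by
        simp [k, kl, P.hfw, P.hgw, mul_add, hy, add_smul]
        simp [hyy, hadd, hadd2]
      have kyx : (k : Module.End F V) (y • x) = w := by
        simp [k, kl, P.hfx, P.hgx, mul_add, hy, add_smul]
        simp [hyy, hadd, hadd2]
      let φ : V →ₗ[F] F :=
        P.ψ ∘ₗ (y • P.g).restrictScalars F + P.ψ ∘ₗ P.g.restrictScalars F
      refine ⟨w + y • x, φ, fun h0 => ?_, fun h0 => ?_, by simp [φ, P.hgw, P.hgx, P.hψ, hy, P.h1, h2], ?_,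
        (c * k) ^ 2, pow_mem (M.mul_mem hc hk) 2, ?_⟩
      · have := congrArg P.f h0
        simp [P.hfw, P.hfx] at this
      · have := LinearMap.congr_fun h0 x
        simp [φ, P.hgx, P.hψ, P.h1] at this
      · refine LinearMap.ext fun v => ?_
        simp [φ, P.hgw, P.hgx, P.hψ, hy, P.h1, h2, haddF]
      · simp only [pow_two, Units.val_mul]
        refine P.ext_four hfg hK ?_ ?_ ?_ ?_ <;>
          simp only [Module.End.mul_apply, LinearMap.add_apply, Module.End.one_apply, LinearMap.smulRight_apply,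
            φ, LinearMap.comp_apply, LinearMap.restrictScalars_apply, LinearMap.smul_apply, map_smul, smul_eq_mul,
            mul_one, mul_zero, hy, h2, P.hgw, P.hgx, P.hψ, P.h1, map_add, map_zero, zero_smul, one_smul, smul_zero,
            add_zero, zero_add, kw, kx, kyw, kyx, cw, cx, cyw, cyx]
        all_goals simp [hadd, hadd2, add_assoc, add_comm, add_left_comm]

theorem hasT [FiniteDimensional F K] (hM : ContainsSL K M) (hr : (finrank F K).Prime) : HasT M := by
  classical
  by_cases hfg : ∀ u, u = P.f u • w + P.g u • x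
  swap
  · push Not at hfg
    obtain ⟨u, hu⟩ := hfg
    let Q : V →ₗ[K] V := LinearMap.id - (P.f.smulRight w + P.g.smulRight x)
    have hQ : ∀ v, Q v = v - (P.f v • w + P.g v • x) := fun v => rfl
    have hQu : Q u ≠ 0 := by rw [hQ, Ne, sub_eq_zero]; exact hu
    obtain ⟨e, he, -⟩ := Submodule.exists_dual_map_eq_bot_of_notMem (p := (⊥ : Submodule K V))
      (x := Q u) (by simpa using hQu) inferInstance
    have hy0 : y ≠ 0 := by
      rintro rfl
      have := P.hψ
      rw [map_zero] at this
      exact zero_ne_one this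
    have hQw : Q w = 0 := by simp [hQ, P.hfw, P.hgw]
    have hQx : Q x = 0 := by simp [hQ, P.hfx, P.hgx]
    refine P.hasT_of_ne_zero hM hr.two_le (MN.transvection hM (e ∘ₗ Q) (y • w) (by simp [hQw]))
      (fun k => by simp [hQw]) (by simp [hQx]) (fun v => ⟨e (Q v) * y, by simp [smul_smul]⟩) ?_
    intro h0
    have := LinearMap.congr_fun h0 u
    simp only [LinearMap.restrictScalars_apply, LinearMap.smulRight_apply, LinearMap.comp_apply,
      LinearMap.zero_apply, smul_smul, smul_eq_zero, mul_eq_zero] at this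
    rcases this with (h | h) | h
    exacts [he h, hy0 h, P.w_ne h]
  by_contra hT
  have hmul : ∀ (a : F) (s k : K), _ := fun a => (P.hasT_or_mul hM hr.two_le a).resolve_left hT
  have halg : ∀ a : F, P.ψ (algebraMap F K a) = 0 := fun a => by
    rw [Algebra.algebraMap_eq_smul_one, map_smul, P.h1, smul_zero]
  let A : Subalgebra F K :=
    { carrier := J
      one_mem' := (P.hJ 1).2 P.h1
      mul_mem' := fun {s k} hs hk => by
        have h := hmul 1 s k
        rw [(P.hJ s).1 hs, (P.hJ k).1 hk] at h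
        simp only [one_mul, map_zero, add_zero, add_eq_left] at h
        exact (P.hJ _).2 (by simpa using h)
      zero_mem' := J.zero_mem
      add_mem' := J.add_mem
      algebraMap_mem' := fun a => (P.hJ _).2 (halg a) }
  haveI := Subalgebra.isSimpleOrder_of_finrank_prime F K hr
  have hyJ : y ∉ J := fun h => one_ne_zero (P.hψ.symm.trans ((P.hJ y).1 h))
  have hbot : A = ⊥ := (eq_bot_or_eq_top A).resolve_right fun h =>
    hyJ (show y ∈ A from h ▸ Algebra.mem_top)
  have hJF : ∀ k ∈ J, ∃ a : F, algebraMap F K a = k := fun k hk =>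
    Algebra.mem_bot.1 (hbot ▸ (show k ∈ A from hk))
  have hyF : ∀ a : F, algebraMap F K a ≠ y := fun a h => hyJ ((P.hJ y).2 (h ▸ halg a))
  have hK : ∀ k : K, ∃ a c : F, k = a • (1 : K) + c • y := fun k => by
    obtain ⟨a, ha⟩ := hJF (k - P.ψ k • y) ((P.hJ _).2 (by simp [P.hψ]))
    exact ⟨a, P.ψ k, by rw [← Algebra.algebraMap_eq_smul_one, ha, sub_add_cancel]⟩
  have hcoef : ∀ a c : F, algebraMap F K a + c • y = 0 → a = 0 ∧ c = 0 := fun a c h => by
    have hc := congrArg P.ψ h
    rw [map_add, halg, map_smul, P.hψ, map_zero, zero_add, smul_eq_mul, mul_one] at hc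
    rw [hc, zero_smul, add_zero, map_eq_zero] at h
    exact ⟨h, hc⟩
  have hsq : ∀ a : F, a * P.ψ (y * y) - a * a = 0 ∧ a + a = 0 := fun a => by
    have h := hmul a y y
    rw [P.hψ, mul_one] at h
    obtain ⟨h1, h2⟩ := hcoef (a * P.ψ (y * y) - a * a) (-(a + a)) (by
      rw [Algebra.smul_def, map_neg, map_add, map_sub, map_mul (algebraMap F K) a a]
      linear_combination h)
    exact ⟨h1, neg_eq_zero.1 h2⟩
  have hψyy : P.ψ (y * y) = 1 := by
    have := (hsq 1).1
    simpa [sub_eq_zero] using this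
  have hF : ∀ a : F, a = 0 ∨ a = 1 := fun a => by
    have := (hsq a).1
    rw [hψyy, mul_one, sub_eq_zero] at this
    exact (em (a = 0)).imp_right fun ha => (mul_left_cancel₀ ha (by rw [mul_one, ← this])).symm
  obtain ⟨a, ha⟩ := hJF (y * y - y) ((P.hJ _).2 (by rw [map_sub, hψyy, P.hψ, sub_self]))
  refine hT (P.hasT_of_four hM hF (hsq 1).2 ?_ hK hfg)
  rcases hF a with rfl | rfl
  · rw [map_zero, eq_comm, sub_eq_zero] at ha
    have hy0 : y ≠ 0 := fun h => hyF 0 (by rw [map_zero, h])
    exact absurd (show algebraMap F K 1 = y by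
      rw [map_one]; exact (mul_left_cancel₀ hy0 (by rw [mul_one, ha])).symm) (hyF 1)
  · rw [map_one, eq_sub_iff_add_eq] at ha
    rw [← ha, add_comm]

end Pair

end Cfsg.Agent.H98.ExtField
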